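import Mathlib
import Groth.Agent.H1CAlg.AlgClosureFinite

/-!
# Separably closed subfields and translations (Zariski's lemma on generic linear sections)
-/

set_option autoImplicit false
set_option linter.style.haveILetI false

noncomputable section

universe u v w

open Polynomial IntermediateField

namespace Groth.Agent.H8Props.Bertini

/-- Clearing denominators in a polynomial whose coefficients are fractions of values of `φ`. -/
theorem exists_map_eq_C_mul {R : Type u} {Ω : Type v} [CommRing R] [Field Ω] (φ : R →+* Ω)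
    (p : Polynomial Ω) (h : ∀ i, ∃ r s, φ s ≠ 0 ∧ p.coeff i = φ r / φ s) :
    ∃ (G : R[X]) (S : R), φ S ≠ 0 ∧ G.map φ = C (φ S) * p := by
  classical
  choose r s hs hp using h
  let I := p.support
  refine ⟨∑ i ∈ I, C (r i * ∏ j ∈ I.erase i, s j) * X ^ i, ∏ j ∈ I, s j, ?_, ?_⟩
  · rw [map_prod]
    exact Finset.prod_ne_zero_iff.2 fun j _ => hs j
  · conv_rhs => rw [p.as_sum_support_C_mul_X_pow, Finset.mul_sum]
    rw [Polynomial.map_sum]
    refine Finset.sum_congr rfl fun i hi => ?_
    rw [Polynomial.map_mul, map_C, Polynomial.map_pow, map_X, ← mul_assoc, ← C_mul]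
    congr 2
    have hsi := hs i
    rw [hp i, ← Finset.mul_prod_erase I s hi, map_mul, map_mul]
    field_simp

theorem isSeparable_of_eval_derivative_ne_zero {F : Type u} {E : Type v} [Field F] [Field E]
    [Algebra F E] {b : E} (g : F[X]) (h0 : aeval b g = 0) (h1 : aeval b (derivative g) ≠ 0) :
    IsSeparable F b := by
  have hg : g ≠ 0 := by rintro rfl; simp at h1
  have halg : IsAlgebraic F b := ⟨g, hg, h0⟩
  have hint : IsIntegral F b := halg.isIntegral
  obtain ⟨r, hr⟩ := minpoly.dvd F b h0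
  refine (separable_iff_derivative_ne_zero (minpoly.irreducible hint)).2 fun hd => h1 ?_
  rw [hr, derivative_mul, hd]
  simp [minpoly.aeval]

/-- If `k0` is infinite and separably closed in `Ω`, `M` is an intermediate field and `t` is
transcendental over `M`, then `k0(t)` is separably closed in `M(t)`. -/
theorem mem_adjoin_simple_of_separable {k0 : Type u} {Ω : Type v} [Field k0] [Field Ω]
    [Algebra k0 Ω] [Infinite k0]
    (hsep : ∀ a : Ω, IsSeparable k0 a → a ∈ (algebraMap k0 Ω).range)
    (M : IntermediateField k0 Ω) {t : Ω} (ht : Transcendental M t) {β : Ω}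
    (hβ : β ∈ IntermediateField.adjoin M {t})
    (hs : IsSeparable ↥(k0⟮t⟯) β) : β ∈ k0⟮t⟯ := by
  classical
  obtain ⟨u, v, rfl⟩ := (mem_adjoin_simple_iff M _).1 hβ
  by_cases hv : aeval t v = 0
  · rw [hv, div_zero]; exact zero_mem _
  set β := aeval t u / aeval t v with hβdef
  let ψ : (↥M)[X] →+* Ω := (aeval t).toRingHom
  have hψinj : Function.Injective ψ := transcendental_iff_injective.1 ht
  let φ : k0[X] →+* Ω := (aeval t).toRingHom
  let j : k0[X] →+* (↥M)[X] := mapRingHom (algebraMap k0 M)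
  have hψj : ψ.comp j = φ := RingHom.ext fun p => aeval_map_algebraMap M t p
  set p0 := (minpoly ↥(k0⟮t⟯) β).map (algebraMap ↥(k0⟮t⟯) Ω)
  obtain ⟨G, S, hS, hG⟩ := exists_map_eq_C_mul φ p0 fun i => by
    obtain ⟨r, s, hrs⟩ := (mem_adjoin_simple_iff k0 _).1 ((minpoly ↥(k0⟮t⟯) β).coeff i).2
    have hc : p0.coeff i = aeval t r / aeval t s := by rw [coeff_map]; exact hrs
    by_cases h0 : aeval t s = 0
    · refine ⟨0, 1, by simp, ?_⟩
      rw [hc, h0, div_zero, map_zero, zero_div]
    · exact ⟨r, s, h0, hc⟩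
  have hint : IsIntegral ↥(k0⟮t⟯) β := hs.isIntegral
  have hroot : eval β p0 = 0 := by rw [eval_map, ← aeval_def]; exact minpoly.aeval _ _
  have hder : eval β (derivative p0) ≠ 0 := by
    rw [derivative_map, eval_map]
    exact Polynomial.Separable.eval₂_derivative_ne_zero _ hs
      (by rw [← aeval_def]; exact minpoly.aeval _ _)
  let G2 := G.map j
  have hG2 : G2.map ψ = C (φ S) * p0 := by rw [Polynomial.map_map, hψj, hG]
  have hψuv : ψ v * β = ψ u := mul_div_cancel₀ _ hv
  let P := eval u (scaleRoots G2 v)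
  have hP : P = 0 := by
    apply hψinj
    rw [map_zero, ← eval₂_at_apply, ← hψuv, scaleRoots_eval₂_mul, ← eval_map, hG2, eval_mul,
      hroot, mul_zero, mul_zero]
  let D := eval u (scaleRoots G2.derivative v)
  have hD : D ≠ 0 := by
    intro h0
    have h1 := congrArg ψ h0
    rw [map_zero, ← eval₂_at_apply, ← hψuv, scaleRoots_eval₂_mul, ← eval_map, ← derivative_map,
      hG2, derivative_C_mul, eval_mul, eval_C, mul_eq_zero, mul_eq_zero] at h1
    rcases h1 with h1 | h1 | h1
    · exact hv (pow_eq_zero_iff'.1 h1).1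
    · exact hS h1
    · exact hder h1
  have hv0 : v ≠ 0 := by rintro rfl; simp at hv
  -- good evaluation points
  have hgood : ∀ e : k0, eval (algebraMap k0 M e) (v * D) ≠ 0 →
      ∃ b : k0, eval (algebraMap k0 M e) u = algebraMap k0 M b * eval (algebraMap k0 M e) v := by
    intro e he
    rw [eval_mul, mul_ne_zero_iff] at he
    let ev : (↥M)[X] →+* M := evalRingHom (algebraMap k0 M e)
    let b : M := ev u / ev v
    have hb : ev v * b = ev u := mul_div_cancel₀ _ he.1
    have hevj : ev.comp j = (algebraMap k0 M).comp (evalRingHom e) :=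
      RingHom.ext fun p => by simp [ev, j, eval_map, eval₂_at_apply]
    have hG2b : eval₂ ev b G2 = 0 := by
      have h1 : ev P = ev v ^ G2.natDegree * eval₂ ev b G2 := by
        rw [← scaleRoots_eval₂_mul, hb, eval₂_at_apply]
      rw [hP, map_zero, eq_comm, mul_eq_zero] at h1
      exact h1.resolve_left (pow_ne_zero _ he.1)
    have hDb : eval₂ ev b G2.derivative ≠ 0 := by
      have h1 : ev D = ev v ^ G2.derivative.natDegree * eval₂ ev b G2.derivative := by
        rw [← scaleRoots_eval₂_mul, hb, eval₂_at_apply]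
      intro h0
      exact he.2 (h1.trans (by rw [h0, mul_zero]))
    let ge := G.map (evalRingHom e)
    have e1 : ∀ q : (k0[X])[X], eval₂ ev b (q.map j) = aeval b (q.map (evalRingHom e)) := fun q => by
      rw [eval₂_map, hevj, aeval_def, eval₂_map]
    have hsb : IsSeparable k0 b := by
      refine isSeparable_of_eval_derivative_ne_zero ge ?_ ?_
      · rw [← e1]; exact hG2b
      · rw [derivative_map, ← e1, ← derivative_map]; exact hDb
    have hsb' : IsSeparable k0 (b : Ω) := by
      show (minpoly k0 (b : Ω)).Separable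
      rw [show minpoly k0 (b : Ω) = minpoly k0 b from
        minpoly.algHom_eq M.val Subtype.val_injective b]
      exact hsb
    obtain ⟨c, hc⟩ := hsep _ hsb'
    refine ⟨c, ?_⟩
    have hcb : algebraMap k0 M c = b := Subtype.ext hc
    rw [hcb, mul_comm]
    exact hb.symm
  set deg := max u.natDegree v.natDegree
  have hinf : {e : k0 | eval (algebraMap k0 M e) (v * D) ≠ 0}.Infinite := by
    have hfin : {e : k0 | eval (algebraMap k0 M e) (v * D) = 0}.Finite :=
      ((finite_setOfPred_isRoot (mul_ne_zero hv0 hD)).preimage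
        (algebraMap k0 M).injective.injOn).subset fun e he => he
    simpa [Set.compl_ofPred] using hfin.infinite_compl
  obtain ⟨Es, hEs, hcard⟩ := hinf.exists_subset_card_eq (2 * deg + 1)
  choose b hb using fun e : Es => hgood e (hEs e.2)
  let T : (Fin (deg + 1) → k0) →ₗ[k0] k0[X] :=
    (Submodule.subtype _).comp (degreeLTEquiv k0 (deg + 1)).symm.toLinearMap
  have hTdeg : ∀ f, (T f).natDegree ≤ deg := fun f => by
    have := mem_degreeLT.1 ((degreeLTEquiv k0 (deg + 1)).symm f).2
    exact natDegree_le_of_degree_le (Order.le_of_lt_succ (by exact_mod_cast this))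
  have hTinj : Function.Injective T :=
    Subtype.val_injective.comp (degreeLTEquiv k0 (deg + 1)).symm.injective
  let Φ : ((Fin (deg + 1) → k0) × (Fin (deg + 1) → k0)) →ₗ[k0] (Es → k0) :=
    LinearMap.pi fun e => (leval (e : k0)).comp (T.comp (LinearMap.fst k0 _ _)) -
      b e • (leval (e : k0)).comp (T.comp (LinearMap.snd k0 _ _))
  obtain ⟨⟨p, q⟩, hpq, hne⟩ := (Submodule.ne_bot_iff _).1
    (LinearMap.ker_ne_bot_of_finrank_lt (f := Φ) (by simp [hcard]; omega))
  have hpq' : ∀ e : Es, eval (e : k0) (T p) = b e * eval (e : k0) (T q) := fun e => by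
    have := congrFun (LinearMap.mem_ker.1 hpq) e
    simpa [Φ, sub_eq_zero] using this
  have key : u * (T q).map (algebraMap k0 M) - v * (T p).map (algebraMap k0 M) = 0 := by
    apply eq_zero_of_natDegree_lt_card_of_eval_eq_zero' _ (Es.image (algebraMap k0 M))
    · intro x hx
      obtain ⟨e, he, rfl⟩ := Finset.mem_image.1 hx
      have h1 := hb ⟨e, he⟩
      have h2 := hpq' ⟨e, he⟩
      dsimp only at h1 h2
      rw [eval_sub, eval_mul, eval_mul, eval_map, eval_map, eval₂_at_apply, eval₂_at_apply, h1, h2,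
        map_mul]
      ring
    · rw [Finset.card_image_of_injective _ (algebraMap k0 M).injective, hcard]
      refine Nat.lt_succ_of_le ((natDegree_sub_le _ _).trans (max_le ?_ ?_))
      · refine natDegree_mul_le.trans ?_
        have := hTdeg q
        rw [natDegree_map]; omega
      · refine natDegree_mul_le.trans ?_
        have := hTdeg p
        rw [natDegree_map]; omega
  have hq : T q ≠ 0 := by
    intro h0
    rw [h0, Polynomial.map_zero, mul_zero, zero_sub, neg_eq_zero, mul_eq_zero] at key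
    have hp : T p = 0 := by
      rcases key with key | key
      · exact absurd key hv0
      · exact Polynomial.map_injective _ (algebraMap k0 M).injective (by simpa using key)
    apply hne
    rw [← T.map_zero] at h0 hp
    rw [hTinj h0, hTinj hp]
    rfl
  have hq' : aeval t (T q) ≠ 0 := by
    intro h0
    apply hq
    apply Polynomial.map_injective (algebraMap k0 M) (algebraMap k0 M).injective
    apply hψinj
    rw [Polynomial.map_zero, map_zero]
    exact (aeval_map_algebraMap M t _).trans h0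
  refine (mem_adjoin_simple_iff k0 _).2 ⟨T p, T q, ?_⟩
  rw [hβdef, div_eq_div_iff hv hq', ← aeval_map_algebraMap M t (T p),
    ← aeval_map_algebraMap M t (T q), ← map_mul, ← map_mul, sub_eq_zero.1 key, mul_comm]

/-- In an infinite family of elements separable over `F` two generate the same field. -/
theorem exists_ne_mem_adjoin_simple {F : Type u} {Ω : Type v} [Field F] [Field Ω] [Algebra F Ω]
    [Algebra.EssFiniteType F Ω] {ι : Type w} [Infinite ι] (f : ι → Ω)
    (hf : ∀ i, IsSeparable F (f i)) : ∃ i j, i ≠ j ∧ f j ∈ F⟮f i⟯ := by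
  have := Groth.Agent.H1CAlg.finiteDimensional_algebraicClosure F Ω
  let N := separableClosure F Ω
  let inc : N →ₐ[F] algebraicClosure F Ω :=
    IntermediateField.inclusion (show separableClosure F Ω ≤ algebraicClosure F Ω from fun x hx =>
      mem_algebraicClosure_iff.2 (mem_separableClosure_iff.1 hx).isIntegral.isAlgebraic)
  have : FiniteDimensional F N := Module.Finite.of_injective inc.toLinearMap inc.injective
  have : Finite (IntermediateField F N) :=
    Field.finite_intermediateField_of_exists_primitive_element F N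
      (Field.exists_primitive_element F N)
  let g : ι → N := fun i => ⟨f i, mem_separableClosure_iff.2 (hf i)⟩
  obtain ⟨i, j, hne, heq⟩ := Finite.exists_ne_map_eq_of_infinite fun i => F⟮g i⟯
  refine ⟨i, j, hne, ?_⟩
  have h1 : g j ∈ F⟮g i⟯ := by
    rw [heq]; exact mem_adjoin_simple_self F (g j)
  have h2 : N.val (g j) ∈ (F⟮g i⟯).map N.val := ⟨g j, h1, rfl⟩
  rw [adjoin_map, Set.image_singleton] at h2
  exact h2

section
variable {k : Type u} {Ω : Type v} [Field k] [Field Ω] [Algebra k Ω] {L0 : IntermediateField k Ω}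

theorem map_mem_adjoin (σ : Ω ≃ₐ[k] Ω) (hσ : ∀ a ∈ L0, σ a ∈ L0) {S T : Set Ω}
    (hS : ∀ a ∈ S, σ a ∈ adjoin L0 T) {a : Ω} (ha : a ∈ adjoin L0 S) : σ a ∈ adjoin L0 T := by
  induction ha using adjoin_induction with
  | mem x hx => exact hS x hx
  | algebraMap x =>
    exact (adjoin L0 T).algebraMap_mem ⟨σ x, hσ _ x.2⟩
  | add x y _ _ hx hy => rw [map_add]; exact add_mem hx hy
  | inv x _ hx => rw [map_inv₀]; exact inv_mem hx
  | mul x y _ _ hx hy => rw [map_mul]; exact mul_mem hx hy

theorem isSeparable_map (σ : Ω ≃ₐ[k] Ω) {A B : IntermediateField L0 Ω}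
    (h : ∀ a ∈ A, σ a ∈ B) {α : Ω} (hα : IsSeparable A α) : IsSeparable B (σ α) := by
  let f : A →+* B := ((σ : Ω →+* Ω).comp (algebraMap A Ω)).codRestrict B fun a => h a a.2
  have hp : (minpoly A α).Separable := hα
  have h0 : aeval (σ α) ((minpoly A α).map f) = 0 := by
    rw [aeval_def, eval₂_map, show (algebraMap B Ω).comp f = (σ : Ω →+* Ω).comp (algebraMap A Ω)
      from RingHom.ext fun a => rfl]
    show eval₂ ((σ : Ω →+* Ω).comp (algebraMap A Ω)) ((σ : Ω →+* Ω) α) (minpoly A α) = 0
    rw [← hom_eval₂, ← aeval_def, minpoly.aeval, map_zero]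
  exact (hp.map (f := f)).of_dvd (minpoly.dvd B (σ α) h0)

/-- Zariski's lemma: `L0(ξ)` stays separably closed in `Ω` in the presence of translations
`ξ ↦ ξ + φ η`. -/
theorem mem_adjoin_of_translations [Algebra.EssFiniteType k Ω]
    (hL0 : ∀ a : Ω, IsSeparable L0 a → a ∈ L0) (ξ η : Ω)
    (hη : Transcendental ↥(adjoin L0 {ξ}) η)
    {ι : Type w} [Infinite ι] (τ : ι → Ω ≃ₐ[k] Ω) (φ : ι → Ω)
    (hφ : ∀ i, φ i ∈ L0) (hφinj : Function.Injective φ)
    (hL : ∀ i, ∀ a ∈ L0, τ i a ∈ L0 ∧ (τ i).symm a ∈ L0)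
    (hξ : ∀ i, τ i ξ = ξ + φ i * η) (hτη : ∀ i, τ i η = η) (hτφ : ∀ i j, τ i (φ j) = φ j)
    {α : Ω} (hα : IsSeparable ↥(adjoin L0 {ξ}) α) : α ∈ adjoin L0 {ξ} := by
  have hηs : ∀ i, (τ i).symm η = η := fun i => by
    rw [AlgEquiv.symm_apply_eq, hτη]
  have hφs : ∀ i j, (τ i).symm (φ j) = φ j := fun i j => by
    rw [AlgEquiv.symm_apply_eq, hτφ]
  have hξs : ∀ i, (τ i).symm ξ = ξ - φ i * η := fun i => by
    rw [AlgEquiv.symm_apply_eq, map_sub, map_mul, hτη, hτφ, hξ, add_sub_cancel_right]
  have hmem : ∀ (S : Set Ω) {a : Ω}, a ∈ L0 → a ∈ adjoin L0 S :=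
    fun S a ha => (adjoin L0 S).algebraMap_mem ⟨a, ha⟩
  let F := adjoin L0 ({ξ, η} : Set Ω)
  have hξF : ξ ∈ F := subset_adjoin _ _ (by simp)
  have hηF : η ∈ F := subset_adjoin _ _ (by simp)
  haveI : Algebra.EssFiniteType L0 Ω := .of_comp k L0 Ω
  haveI : Algebra.EssFiniteType F Ω := .of_comp L0 F Ω
  have hsepF : ∀ i, IsSeparable F (τ i α) := fun i => by
    refine isSeparable_map (τ i) (fun a ha => map_mem_adjoin (τ i) (fun a ha => (hL i a ha).1) ?_ ha) hα
    rintro _ rfl
    rw [hξ]
    exact add_mem hξF (mul_mem (hmem _ (hφ i)) hηF)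
  obtain ⟨i, j, hij, hmem'⟩ := exists_ne_mem_adjoin_simple (F := F) (fun i => τ i α) hsepF
  let ρ := (τ j).trans (τ i).symm
  let s := φ j - φ i
  have hs : s ≠ 0 := sub_ne_zero.2 fun h => hij (hφinj h).symm
  let t := ξ + s * η
  have hρξ : ρ ξ = t := by
    show (τ i).symm (τ j ξ) = ξ + s * η
    rw [hξ, map_add, map_mul, hξs, hφs, hηs]; ring
  have hρ : ρ α ∈ adjoin L0 ({ξ, η, α} : Set Ω) := by
    have h1 : τ j α ∈ adjoin L0 (({ξ, η} : Set Ω) ∪ {τ i α}) := by
      rw [← adjoin_adjoin_left]; exact hmem'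
    refine map_mem_adjoin (τ i).symm (fun a ha => (hL i a ha).2) ?_ h1
    rintro a ((rfl | rfl) | rfl)
    · rw [hξs]
      exact sub_mem (subset_adjoin _ _ (by simp))
        (mul_mem (hmem _ (hφ i)) (subset_adjoin _ _ (by simp)))
    · rw [hηs]; exact subset_adjoin _ _ (by simp)
    · rw [AlgEquiv.symm_apply_apply]; exact subset_adjoin _ _ (by simp)
  let E := adjoin L0 ({ξ} : Set Ω)
  let M' : IntermediateField E Ω := adjoin E {α}
  haveI : Algebra.IsAlgebraic E M' := isAlgebraic_adjoin_simple hα.isIntegral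
  let M : IntermediateField L0 Ω := M'.restrictScalars L0
  have hξM : ξ ∈ M' := M'.algebraMap_mem ⟨ξ, mem_adjoin_simple_self L0 ξ⟩
  have hL0M : ∀ a ∈ L0, a ∈ M' := fun a ha => M'.algebraMap_mem ⟨a, hmem _ ha⟩
  have ht : Transcendental M t := by
    intro halg
    have halg' : IsAlgebraic M' t := halg
    have h1 : IsAlgebraic M' ((t - ξ) * s⁻¹) :=
      (halg'.sub (isAlgebraic_algebraMap (R := M') (A := Ω) ⟨ξ, hξM⟩)).mul
        (isAlgebraic_algebraMap (R := M') (A := Ω)
          ⟨s⁻¹, inv_mem (sub_mem (hL0M _ (hφ j)) (hL0M _ (hφ i)))⟩)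
    rw [show (t - ξ) * s⁻¹ = η by
      show (ξ + s * η - ξ) * s⁻¹ = η
      field_simp; ring] at h1
    exact hη (IsAlgebraic.restrictScalars _ h1)
  have hρM : ρ α ∈ adjoin M {t} := by
    suffices h : adjoin L0 ({ξ, η, α} : Set Ω) ≤ (adjoin M {t}).restrictScalars L0 from h hρ
    have hξ' : ξ ∈ adjoin M {t} := (adjoin M {t}).algebraMap_mem ⟨ξ, hξM⟩
    have ht' : t ∈ adjoin M {t} := mem_adjoin_simple_self _ _
    have hs' : s⁻¹ ∈ adjoin M {t} := (adjoin M {t}).algebraMap_mem
      ⟨s⁻¹, inv_mem (sub_mem (hL0M _ (hφ j)) (hL0M _ (hφ i)))⟩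
    rw [adjoin_le_iff]
    rintro a (rfl | rfl | rfl)
    · exact hξ'
    · have : (t - ξ) * s⁻¹ = a := by
        show (ξ + s * a - ξ) * s⁻¹ = a
        field_simp; ring
      rw [← this]
      exact mul_mem (sub_mem ht' hξ') hs'
    · exact (adjoin M {t}).algebraMap_mem ⟨a, mem_adjoin_simple_self E a⟩
  have hρs : IsSeparable ↥(adjoin L0 {t}) (ρ α) := by
    refine isSeparable_map ρ (fun a ha => map_mem_adjoin ρ (fun a ha => (hL i _ (hL j a ha).1).2) ?_ ha) hα
    rintro _ rfl
    rw [hρξ]; exact mem_adjoin_simple_self _ _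
  haveI : Infinite L0 := Infinite.of_injective (fun i => (⟨φ i, hφ i⟩ : L0))
    fun a b h => hφinj (congrArg Subtype.val h)
  have h2 : ρ α ∈ adjoin L0 {t} :=
    mem_adjoin_simple_of_separable (fun a ha => ⟨⟨a, hL0 a ha⟩, rfl⟩) M ht hρM hρs
  have h3 := map_mem_adjoin ρ.symm (fun a ha => (hL j _ (hL i a ha).1).2) (S := {t}) (T := {ξ})
    (by rintro _ rfl; rw [← hρξ, AlgEquiv.symm_apply_apply]; exact mem_adjoin_simple_self _ _) h2
  rwa [AlgEquiv.symm_apply_apply] at h3

end

end Groth.Agent.H8Props.Bertini
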