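import Mathlib
import Groth.Agent.H8Props.Bertini.SepClosedAdjoin

/-!
# `k(x)` is separably closed in `K(x)` if `K` is geometrically irreducible over `k`
-/

set_option autoImplicit false

noncomputable section

universe u

open Polynomial IntermediateField
open scoped TensorProduct

namespace Groth.Agent.H8Props.Bertini

theorem scaleRoots_comp_C_mul_X {R : Type u} [CommRing R] (p : Polynomial R) (s : R) :
    (scaleRoots p s).comp (C s * X) = C (s ^ p.natDegree) * p := by
  rw [comp, scaleRoots_eval₂_mul, C_pow, eval₂_C_X]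

/-- Two embeddings of `L'` into `Ω` agree on a simple root which is a fraction over `K`. -/
theorem eq_of_irreducibleSpace_tensor {k K L' Ω : Type u} [Field k] [Field K] [Field L'] [Field Ω]
    [Algebra k K] [Algebra k L'] [Algebra K Ω] [Algebra k Ω] [IsScalarTower k K Ω]
    [IrreducibleSpace (PrimeSpectrum (L' ⊗[k] K))] {ι : Type*} (y : ι → L') (x : ι → Ω)
    (hx : AlgebraicIndependent K x) (τ₁ τ₂ : L' →ₐ[k] Ω)
    (h₁ : ∀ i, τ₁ (y i) = x i) (h₂ : ∀ i, τ₂ (y i) = x i)
    (a : L') (p q : MvPolynomial ι K) (hq : MvPolynomial.aeval x q ≠ 0)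
    (ha : τ₁ a * MvPolynomial.aeval x q = MvPolynomial.aeval x p)
    (G : Polynomial (MvPolynomial ι k))
    (hG : eval₂ (MvPolynomial.aeval y).toRingHom a G = 0)
    (hG' : eval₂ (MvPolynomial.aeval x).toRingHom (τ₁ a) (derivative G) ≠ 0) :
    τ₂ a = τ₁ a := by
  have hnil : (nilradical (L' ⊗[k] K)).IsPrime :=
    PrimeSpectrum.irreducibleSpace_iff_isPrime_nilradical.1 inferInstance
  let ι₀ : MvPolynomial ι K →+* L' ⊗[k] K :=
    MvPolynomial.eval₂Hom (Algebra.TensorProduct.includeRight : K →ₐ[k] L' ⊗[k] K).toRingHom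
      fun i => y i ⊗ₜ 1
  let inL : L' →+* L' ⊗[k] K := (Algebra.TensorProduct.includeLeft : L' →ₐ[k] L' ⊗[k] K).toRingHom
  let μ : (L' →ₐ[k] Ω) → (L' ⊗[k] K →+* Ω) := fun τ =>
    (Algebra.TensorProduct.productMap τ (IsScalarTower.toAlgHom k K Ω)).toRingHom
  let φ : MvPolynomial ι K →+* Ω := (MvPolynomial.aeval x).toRingHom
  let m : MvPolynomial ι k →+* MvPolynomial ι K := MvPolynomial.map (algebraMap k K)
  have hμ : ∀ τ : L' →ₐ[k] Ω, (∀ i, τ (y i) = x i) → (μ τ).comp ι₀ = φ := fun τ hτ =>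
    MvPolynomial.ringHom_ext (fun r => by simp [μ, ι₀, φ]) (fun i => by simp [μ, ι₀, φ, hτ i])
  have hm : ι₀.comp m = inL.comp (MvPolynomial.aeval y).toRingHom :=
    MvPolynomial.ringHom_ext
      (fun r => by
        simp only [ι₀, m, inL, RingHom.coe_comp, Function.comp_apply, MvPolynomial.map_C,
          MvPolynomial.eval₂Hom_C, AlgHom.toRingHom_eq_coe, RingHom.coe_coe,
          Algebra.TensorProduct.includeRight_apply, Algebra.TensorProduct.includeLeft_apply,
          MvPolynomial.aeval_C]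
        rw [Algebra.algebraMap_eq_smul_one, Algebra.algebraMap_eq_smul_one, TensorProduct.smul_tmul])
      (fun i => by simp [ι₀, m, inL])
  have hφm : φ.comp m = (MvPolynomial.aeval x).toRingHom :=
    MvPolynomial.ringHom_ext
      (fun r => by simp [φ, m, ← IsScalarTower.algebraMap_apply k K Ω])
      (fun i => by simp [φ, m])
  have hτy : (τ₁ : L' →+* Ω).comp (MvPolynomial.aeval (R := k) y).toRingHom =
      (MvPolynomial.aeval (R := k) x).toRingHom :=
    MvPolynomial.ringHom_ext (fun r => by simp) (fun i => by simp [h₁])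
  let G2 := G.map m
  have hφq : φ q ≠ 0 := hq
  have hφp : φ q * τ₁ a = φ p := (mul_comm _ _).trans ha
  have hrootΩ : eval₂ φ (τ₁ a) G2 = 0 := by
    rw [eval₂_map, hφm, ← hτy]
    show eval₂ ((τ₁ : L' →+* Ω).comp _) ((τ₁ : L' →+* Ω) a) G = 0
    rw [← hom_eval₂, hG, map_zero]
  let Gs := scaleRoots G2 q
  have hR : eval p Gs = 0 := by
    apply hx
    rw [map_zero]
    show φ (eval p Gs) = 0
    rw [← eval₂_at_apply, ← hφp, scaleRoots_eval₂_mul, hrootΩ, mul_zero]
  let A := inL a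
  have hA : eval₂ ι₀ A G2 = 0 := by
    rw [eval₂_map, hm, ← hom_eval₂, hG, map_zero]
  let f := Gs.map ι₀
  let Q := ι₀ q
  let P := ι₀ p
  obtain ⟨c, hc⟩ := binomExpansion f (Q * A) (P - Q * A)
  have hfQA : f.eval (Q * A) = 0 := by rw [eval_map, scaleRoots_eval₂_mul, hA, mul_zero]
  have hfP : f.eval P = 0 := by rw [eval_map, eval₂_at_apply, hR, map_zero]
  rw [add_sub_cancel, hfP, hfQA, zero_add] at hc
  have hzero : (P - Q * A) * (f.derivative.eval (Q * A) + c * (P - Q * A)) = 0 := by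
    rw [hc]; ring
  have hμA : ∀ τ : L' →ₐ[k] Ω, μ τ A = τ a := fun τ => by simp [μ, A, inL]
  have hμι : ∀ (τ : L' →ₐ[k] Ω), (∀ i, τ (y i) = x i) → ∀ r, μ τ (ι₀ r) = φ r :=
    fun τ hτ r => RingHom.congr_fun (hμ τ hτ) r
  have hker : ∀ (τ : L' →ₐ[k] Ω) z, z ∈ nilradical (L' ⊗[k] K) → μ τ z = 0 := fun τ z hz =>
    (IsNilpotent.map (mem_nilradical.1 hz) (μ τ)).eq_zero
  rcases hnil.mem_or_mem
    (by rw [hzero]; exact zero_mem _) with h | h
  · have h2 := hker τ₂ _ h
    rw [map_sub, map_mul, hμι τ₂ h₂, hμι τ₂ h₂, hμA, sub_eq_zero, ← hφp] at h2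
    exact (mul_left_cancel₀ hφq h2).symm
  · exfalso
    have h1 := hker τ₁ _ h
    rw [map_add, map_mul, map_sub, map_mul, hμι τ₁ h₁, hμι τ₁ h₁, hμA, hφp, sub_self, mul_zero,
      add_zero, derivative_map, eval_map, hom_eval₂, map_mul, hμA, hμι τ₁ h₁, hμ τ₁ h₁] at h1
    have h3 := congrArg (fun P => eval₂ φ (τ₁ a) (derivative P)) (scaleRoots_comp_C_mul_X G2 q)
    rw [derivative_comp, derivative_C_mul, derivative_X, mul_one, derivative_C_mul, eval₂_mul,
      eval₂_mul, eval₂_C, eval₂_C, eval₂_comp, eval₂_mul, eval₂_C, eval₂_X, h1, mul_zero, eq_comm,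
      mul_eq_zero, map_pow] at h3
    refine h3.elim (pow_ne_zero _ hφq) fun h4 => hG' ?_
    rwa [derivative_map, eval₂_map, hφm] at h4

/-- `k(x)` is separably closed in `K(x)`. -/
theorem mem_adjoin_range_of_isSeparable {k K Ω : Type u} [Field k] [Field K] [Field Ω]
    [Algebra k K] [Algebra K Ω] [Algebra k Ω] [IsScalarTower k K Ω]
    (hirr : ∀ (k' : Type u) [Field k'] [Algebra k k'], IrreducibleSpace (PrimeSpectrum (k' ⊗[k] K)))
    {ι : Type*} (x : ι → Ω) (hx : AlgebraicIndependent K x)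
    (hfrac : ∀ a : Ω, ∃ p q : MvPolynomial ι K,
      MvPolynomial.aeval x q ≠ 0 ∧ a = MvPolynomial.aeval x p / MvPolynomial.aeval x q)
    {α : Ω} (hα : IsSeparable ↥(adjoin k (Set.range x)) α) : α ∈ adjoin k (Set.range x) := by
  classical
  set L0 := adjoin k (Set.range x) with hL0
  by_contra hmem
  let p0 := (minpoly L0 α).map (algebraMap L0 Ω)
  obtain ⟨G, S, hS, hG⟩ := exists_map_eq_C_mul (MvPolynomial.aeval (R := k) x).toRingHom p0 fun i => by
    obtain ⟨r, s, hrs⟩ := (mem_adjoin_range_iff k x _).1 ((minpoly L0 α).coeff i).2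
    have hc : p0.coeff i = MvPolynomial.aeval x r / MvPolynomial.aeval x s := by
      rw [coeff_map]; exact hrs
    by_cases h0 : MvPolynomial.aeval x s = 0
    · refine ⟨0, 1, by simp, ?_⟩
      rw [hc, h0, div_zero, map_zero, zero_div]
    · exact ⟨r, s, h0, hc⟩
  have hint : IsIntegral L0 α := hα.isIntegral
  let E := AlgebraicClosure Ω
  have hdeg : 2 ≤ (minpoly L0 α).natDegree := by
    rcases Nat.lt_or_ge (minpoly L0 α).natDegree 2 with h | h
    · have h1 : (minpoly L0 α).natDegree = 1 := by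
        have := minpoly.natDegree_pos hint; omega
      obtain ⟨a, ha⟩ := minpoly.natDegree_eq_one_iff.1 h1
      exact absurd (ha ▸ a.2) hmem
    · exact h
  have hcard : 1 < Fintype.card ((minpoly L0 α).rootSet E) := by
    rw [card_rootSet_eq_natDegree hα (IsAlgClosed.splits _)]; omega
  obtain ⟨⟨b, hb⟩, hne⟩ := Fintype.exists_ne_of_one_lt_card hcard
    ⟨algebraMap Ω E α, (mem_rootSet_of_ne (minpoly.ne_zero hint)).2
      (by rw [aeval_algebraMap_apply, minpoly.aeval, map_zero])⟩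
  have hb' : b ∈ (minpoly L0 α).aroots E := (mem_rootSet'.1 hb) |> fun h => mem_aroots'.2 h
  let τ₁ : L0⟮α⟯ →ₐ[k] E := ((IsScalarTower.toAlgHom L0 Ω E).comp L0⟮α⟯.val).restrictScalars k
  let τ₂' : L0⟮α⟯ →ₐ[L0] E := (algHomAdjoinIntegralEquiv L0 hint).symm ⟨b, hb'⟩
  let y : ι → L0⟮α⟯ := fun i => algebraMap L0 L0⟮α⟯ ⟨x i, subset_adjoin _ _ ⟨i, rfl⟩⟩
  let x' : ι → E := fun i => algebraMap Ω E (x i)
  have hx' : AlgebraicIndependent K x' :=
    hx.map' (f := IsScalarTower.toAlgHom K Ω E) (algebraMap Ω E).injective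
  obtain ⟨p, q, hq, hpq⟩ := hfrac α
  have := hirr L0⟮α⟯
  have hx'eval : ∀ r : MvPolynomial ι K, MvPolynomial.aeval x' r = algebraMap Ω E (MvPolynomial.aeval x r) :=
    fun r => (MvPolynomial.comp_aeval_apply x (IsScalarTower.toAlgHom K Ω E) r).symm
  have hgen : τ₁ (AdjoinSimple.gen L0 α) = algebraMap Ω E α := rfl
  have key := eq_of_irreducibleSpace_tensor y x' hx' τ₁ (τ₂'.restrictScalars k) (fun i => rfl)
    (fun i => τ₂'.commutes _) (AdjoinSimple.gen L0 α) p q
    (by rw [hx'eval]; exact (_root_.map_ne_zero _).2 hq)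
    (by rw [hgen, hx'eval, hx'eval, ← map_mul, hpq, div_mul_cancel₀ _ hq])
    G ?_ ?_
  · rw [hgen] at key
    refine hne (Subtype.ext (Eq.trans ?_ key))
    show b = τ₂' (AdjoinSimple.gen L0 α)
    rw [algHomAdjoinIntegralEquiv_symm_apply_gen]
  · apply L0⟮α⟯.val.injective
    rw [map_zero]
    show (L0⟮α⟯.val : L0⟮α⟯ →+* Ω) (eval₂ _ _ G) = 0
    rw [hom_eval₂, show (L0⟮α⟯.val : L0⟮α⟯ →+* Ω).comp (MvPolynomial.aeval (R := k) y).toRingHom =
      (MvPolynomial.aeval (R := k) x).toRingHom from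
      MvPolynomial.ringHom_ext (fun r => by simp; rfl)
        (fun i => by simp [y])]
    show eval₂ _ α G = 0
    rw [← eval_map, hG, eval_mul, eval_map, ← aeval_def, minpoly.aeval, mul_zero]
  · rw [hgen, show (MvPolynomial.aeval (R := k) x').toRingHom =
      (algebraMap Ω E).comp (MvPolynomial.aeval (R := k) x).toRingHom from
      MvPolynomial.ringHom_ext (fun r => by simp [← IsScalarTower.algebraMap_apply k Ω E])
        (fun i => by simp [x']), ← hom_eval₂, ← eval_map, ← derivative_map, hG, derivative_C_mul,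
      eval_mul, eval_C, derivative_map, eval_map, _root_.map_ne_zero]
    exact mul_ne_zero hS (Polynomial.Separable.eval₂_derivative_ne_zero _ hα
      (by rw [← aeval_def]; exact minpoly.aeval _ _))

end Groth.Agent.H8Props.Bertini
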